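import Groth.Agent.S1109
import Groth.Agent.S1500
import Groth.Agent.Ega2.AmpleUnit
import Groth.Agent.Ega2.AmpleAff
import Groth.Prelude.Def_MoreMor

/-!
# Ample families on locally factorial schemes with affine diagonal
-/

set_option autoImplicit false
universe u
open CategoryTheory CategoryTheory.Limits AlgebraicGeometry TopologicalSpace

namespace Groth.Agent.Pic13.H937.AmpleUfd

variable {X : Scheme.{u}}

/-- The structure module is ample on an affine open. -/
theorem isAmple_restrict_structureModule {U : X.Opens} (hU : IsAffineOpen U) :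
    CohB1.IsAmple ((Coh.structureModule X).restrict U.ι) := by
  have : IsAffine (U : Scheme.{u}) := hU
  exact Groth.Agent.Ega2.Weight.isAmple_of_iso (Scheme.Modules.restrictUnitIso U.ι).symm
    (Groth.Agent.Ega2.Weight.isAmple_structureModule (U : Scheme.{u}))

/-- A Noetherian scheme with affine diagonal whose local rings are unique factorisation domains
has an ample family of invertible modules. -/
theorem hasAmpleFamily_of_ufd (X : Scheme.{u}) [IsNoetherian X]
    (hdiag : ∀ U V : X.Opens, IsAffineOpen U → IsAffineOpen V → IsAffineOpen (U ⊓ V))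
    (hufd : ∀ x : X, IsDomain (X.presheaf.stalk x) ∧
      UniqueFactorizationMonoid (X.presheaf.stalk x)) :
    MoreMor.HasAmpleFamily X := by
  classical
  have h : ∀ x : X, ∃ (U : X.Opens) (𝓘 : X.IdealSheafData), x ∈ U ∧ IsAffineOpen U ∧
      BlowUp.IsEffCartierIdeal 𝓘 ∧ (𝓘.support : Set X) = (U : Set X)ᶜ := by
    intro x
    obtain ⟨U, hxU, hU, hd⟩ := Groth.Agent.S1109.exists_dense_affine X x
    obtain ⟨𝓘, h1, h2⟩ := Groth.Agent.S1687.result X hdiag U hU hd (fun y _ => hufd y)
    exact ⟨U, 𝓘, hxU, hU, h1, h2⟩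
  choose U 𝓘 hxU hUaff h𝓘 hU using h
  obtain ⟨I, hI⟩ := (isCompact_univ (X := X)).elim_finite_subcover (fun x => (U x : Set X))
    (fun x => (U x).2) (fun x _ => Set.mem_iUnion.mpr ⟨x, hxU x⟩)
  let e := I.equivFin
  refine Groth.Agent.S1500.result (m := I.card) (fun i => 𝓘 (e.symm i)) (fun i => h𝓘 _) ?_
    (fun _ => Coh.structureModule X) (fun _ => Groth.Agent.Fdesc.LocGen.isInvertible_structureModule)
    (fun i => ?_)
  · rw [Set.eq_empty_iff_forall_notMem]
    intro x hx
    rw [Set.mem_iInter] at hx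
    obtain ⟨i, hi, hxi⟩ := Set.mem_iUnion₂.mp (hI (Set.mem_univ x))
    have h1 := hx (e ⟨i, hi⟩)
    rw [hU] at h1
    apply h1
    simpa using hxi
  · have hc : (𝓘 (e.symm i)).support.compl = U (e.symm i) := by
      ext x
      have h2 : (x ∈ ((𝓘 (e.symm i)).support : Set X)) ↔ x ∉ U (e.symm i) := by
        rw [hU]; rfl
      change x ∉ ((𝓘 (e.symm i)).support : Set X) ↔ x ∈ U (e.symm i)
      rw [h2, not_not]
    rw [hc]
    exact isAmple_restrict_structureModule (hUaff _)

end Groth.Agent.Pic13.H937.AmpleUfd
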